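import Cfsg.Agent.Lib.Grp.HS.D0

set_option autoImplicit false
set_option maxRecDepth 100000
set_option Elab.async false

namespace Cfsg.Agent.CG.HS

noncomputable def tabs : List ℕ := [t0,t1,t2,t3,t4,t5,t6,t7,t8,t9,t10,t11,t12,t13,t14,t15,t16,t17,t18,t19,t20,t21,t22,t23,t24,t25,t26,t27,t28,t29,t30,t31,t32,t33,t34,t35,t36,t37,t38,t39,t40,t41,t42,t43,t44,t45,t46,t47,t48,t49,t50,t51,t52,t53,t54,t55,t56,t57,t58,t59,t60,t61,t62,t63,t64,t65,t66]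
noncomputable abbrev app : ℕ → ℕ → ℕ := appT tabs t67 0xfff
noncomputable def slpL : List (Bool × List ℕ) := [(false,[]),
  (false,[]),
  (false,[]),
  (false,[0,1]),
  (true,[3]),
  (false,[0]),
  (false,[3]),
  (true,[6]),
  (false,[0,5,4,5,3,5,0]),
  (false,[6,6,6,8,7,8,7]),
  (true,[9]),
  (false,[7,8,7,8,7,7,8]),
  (true,[11]),
  (false,[8,11,10,10,12,8,9]),
  (true,[13]),
  (false,[10,7,12,9,8,11,9,7,8,10,12]),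
  (true,[15]),
  (false,[6,10,6,13,10,13,12,13,12,12]),
  (true,[17]),
  (false,[8,13,13,12,10,8,6,14,14,6]),
  (true,[19]),
  (false,[18,20,15,7,7,9,8,14,8,7]),
  (true,[21]),
  (false,[19,16,18,7,11,14,6,8,14,6,9,8,13,9]),
  (false,[19,16,7,10,13,13,12,6,8,10,7,11,14]),
  (true,[24]),
  (false,[16,17,9,8,11,11,9,7,12,14,14,7]),
  (true,[26]),
  (false,[27,22,22,19,16,20,7,10,8,13,8,11,7,8,14]),
  (true,[28]),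
  (false,[27,27,22,23,16,17,16,8,12,6,12,8,13,8,12,13,6,6]),
  (true,[30]),
  (false,[31,26,24,23,19,13,7,10,10,6,9,13,13,10,12]),
  (true,[32]),
  (false,[29,25,21,17,15,8,12,6,14,10,8,9,7,10,10,12]),
  (false,[33,31,22,23,18,18,8,13,6,13,10,8,11,8,6,6]),
  (false,[35,32,31,26,26,21,19,16,6,14,14,12,9,8,12,7,8,14,8]),
  (false,[35,32,31,23,19,6,13,11,10,11,7,10,10,8,11,14]),
  (false,[37]),
  (false,[36]),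
  (false,[34,36]),
  (false,[35,34,37]),
  (false,[32,35,34,37]),
  (true,[42]),
  (false,[30,35,36,37]),
  (false,[26,26,30,36,37]),
  (false,[21,26,26,28]),
  (false,[15,21,24,27,28,35,34,36,37]),
  (false,[10,10,8,16,20,21,21,23,26,28,33,35,34,36]),
  (false,[19,16,20,24,26,26,30,32,35,34,37]),
  (true,[49]),
  (false,[15,17,23,21,28]),
  (false,[7,11,8,17,17,22,23,21,26,28,32,35,36]),
  (false,[6,9,9,16,20,23,25,26,26,29,36]),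
  (false,[10,11,7,17,24,35,34,36,37]),
  (true,[54]),
  (false,[8,17,22,23,21,27,27,29,33,35,36]),
  (false,[18,25,21,27,28,33,37]),
  (true,[57]),
  (false,[23,21,26,28,33,35,34,36,37]),
  (true,[59]),
  (false,[24,22,24,26,28]),
  (true,[61]),
  (false,[22,24,27,35,36,37]),
  (false,[6,6]),
  (true,[64]),
  (false,[6,9,7,20,15,21,21,26,26,30,32,35,34,37])]
noncomputable def slp (a : ℕ) : Bool × List ℕ := nth slpL (false, []) a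
noncomputable def invL : List ℕ := [0,2,1,4,3,5,7,6,8,10,9,12,11,14,13,16,15,18,17,20,19,22,21,23,25,24,27,26,29,28,31,30,33,32,34,35,36,37,38,39,40,41,43,42,44,45,46,47,48,50,49,51,52,53,55,54,56,58,57,60,59,62,61,63,65,64,66]
noncomputable def inv (a : ℕ) : ℕ := nth invL 67 a
noncomputable def bs : List ℕ := [0,948,204,972,588,720,840,624,144]
noncomputable def mc0 : Lvl := ⟨0, [6,7,8,9,10,11,12,13,14], 100,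
  fun i => look 0xfff mc0c (Nat.mul 12 i), fun i => look 0xff mc0p (Nat.mul 8 i),
  fun i => look 255 mc0l (Nat.mul 8 i), fun i => look 255 mc0i (Nat.mul 8 i), fun x => look 0xfff mc0q x, 3⟩
noncomputable def mc1 : Lvl := ⟨948, [15,16,17,18,19,20], 22,
  fun i => look 0xfff mc1c (Nat.mul 12 i), fun i => look 0xff mc1p (Nat.mul 8 i),
  fun i => look 255 mc1l (Nat.mul 8 i), fun i => look 255 mc1i (Nat.mul 8 i), fun x => look 0xfff mc1q x, 3⟩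
noncomputable def mc2 : Lvl := ⟨204, [21,22,23,24,25], 21,
  fun i => look 0xfff mc2c (Nat.mul 12 i), fun i => look 0xff mc2p (Nat.mul 8 i),
  fun i => look 255 mc2l (Nat.mul 8 i), fun i => look 255 mc2i (Nat.mul 8 i), fun x => look 0xfff mc2q x, 3⟩
noncomputable def mc3 : Lvl := ⟨972, [26,27], 5,
  fun i => look 0xfff mc3c (Nat.mul 12 i), fun i => look 0xf mc3p (Nat.mul 4 i),
  fun i => look 255 mc3l (Nat.mul 8 i), fun i => look 255 mc3i (Nat.mul 8 i), fun x => look 0xfff mc3q x, 2⟩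
noncomputable def mc4 : Lvl := ⟨588, [28,29,30,31], 4,
  fun i => look 0xfff mc4c (Nat.mul 12 i), fun i => look 0xf mc4p (Nat.mul 4 i),
  fun i => look 255 mc4l (Nat.mul 8 i), fun i => look 255 mc4i (Nat.mul 8 i), fun x => look 0xfff mc4q x, 1⟩
noncomputable def mc5 : Lvl := ⟨720, [32,33], 3,
  fun i => look 0xfff mc5c (Nat.mul 12 i), fun i => look 0xf mc5p (Nat.mul 4 i),
  fun i => look 255 mc5l (Nat.mul 8 i), fun i => look 255 mc5i (Nat.mul 8 i), fun x => look 0xfff mc5q x, 1⟩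
noncomputable def mc6 : Lvl := ⟨840, [34,35], 4,
  fun i => look 0xfff mc6c (Nat.mul 12 i), fun i => look 0xf mc6p (Nat.mul 4 i),
  fun i => look 255 mc6l (Nat.mul 8 i), fun i => look 255 mc6i (Nat.mul 8 i), fun x => look 0xfff mc6q x, 2⟩
noncomputable def mc7 : Lvl := ⟨624, [36], 2,
  fun i => look 0xfff mc7c (Nat.mul 12 i), fun i => look 0xf mc7p (Nat.mul 4 i),
  fun i => look 255 mc7l (Nat.mul 8 i), fun i => look 255 mc7i (Nat.mul 8 i), fun x => look 0xfff mc7q x, 1⟩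
noncomputable def mc8 : Lvl := ⟨144, [37], 2,
  fun i => look 0xfff mc8c (Nat.mul 12 i), fun i => look 0xf mc8p (Nat.mul 4 i),
  fun i => look 255 mc8l (Nat.mul 8 i), fun i => look 255 mc8i (Nat.mul 8 i), fun x => look 0xfff mc8q x, 1⟩
noncomputable def mc : List Lvl := [mc0, mc1, mc2, mc3, mc4, mc5, mc6, mc7, mc8]
noncomputable def tcR : List (List ℕ) := [[38,38],
  [39,39],
  [39,38,39,38],
  [40,40],
  [41,41],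
  [40,38,40,38],
  [41,38,41,38],
  [40,39,40,39],
  [41,39,41,39],
  [40,41,40,41],
  [42,43],
  [43,42],
  [42,42,42],
  [42,38,43,41],
  [42,39,43,40],
  [43,38,42,38,41],
  [43,39,42,39,40],
  [44,44],
  [44,39,44,38,41],
  [44,40,44,39,41],
  [44,42,44,42,44,42],
  [45,45],
  [45,42,45,42],
  [45,44,45,44],
  [45,39,45,39,45,39],
  [45,41,45,38,45,41,42],
  [45,39,44,39,45,38,39,41],
  [46,46],
  [46,39,46,39],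
  [46,40,46,40],
  [46,38,46,38,39],
  [46,41,46,39,40,41],
  [46,42,46,42,46,42],
  [46,45,46,45,46,45],
  [46,42,44,46,38,41,42,44],
  [47,47],
  [47,39,47,39],
  [47,46,47,46],
  [47,40,47,40,46],
  [47,41,47,41,47,41],
  [47,45,47,39,45,46,45,39],
  [48,48],
  [48,39,48,39,48,39],
  [48,46,48,46,48,46],
  [48,47,48,47,48,47],
  [48,42,47,43,48,42,46,43],
  [48,40,48,42,47,46,43,40],
  [48,38,44,47,44,48,44,47,44,38],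
  [48,38,44,48,40,48,44,38,48,41],
  [48,38,48,38,48,38,48,38],
  [40,48,40,45,44,40,48,40,44,45],
  [47,48,46,47,48,43,48,40,42]]
noncomputable def tc0T : List ℕ := [0,0,0,0,0,0,0,0,0,0,0,0,0,0,0,0,0,0,0,0,0,0,0,0,0,0,0,0,0,0,0,0,0,0,0,0,0,0,tc0t38,tc0t39,tc0t40,tc0t41,tc0t42,tc0t43,tc0t44,tc0t45,tc0t46,tc0t47,tc0t48]
noncomputable def tc0r : Tr Rule := (.node (.node (.node (.node (.node (.node (.node (.node (.leaf ⟨48,[48],41,1⟩) (.leaf ⟨42,[39,43,40],14,0⟩)) (.leaf ⟨41,[46,41,46,39,40],31,5⟩)) (.node (.node (.leaf ⟨42,[46,42,46,42,46],32,3⟩) (.leaf ⟨48,[42,47,43,48,42,46,43],45,0⟩)) (.leaf ⟨44,[39,44,38,41],18,0⟩))) (.node (.node (.node (.leaf ⟨42,[42,42],12,2⟩) (.leaf ⟨48,[46,48,46,48,46],43,2⟩)) (.leaf ⟨45,[46,45,39,47,45,47,39],40,4⟩)) (.node (.leaf ⟨43,[41,42,38],13,2⟩) (.leaf ⟨40,[39,40,39],7,0⟩))))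 (.node (.node (.node (.node (.leaf ⟨45,[45],21,1⟩) (.leaf ⟨38,[40,38,40],5,1⟩)) (.leaf ⟨38,[48,38,48,38,48,38,48],49,5⟩)) (.node (.node (.leaf ⟨46,[40,46,40],29,0⟩) (.leaf ⟨48,[43,48,40,42,47,48,46,47],51,4⟩)) (.leaf ⟨39,[40,43,39,42],16,3⟩))) (.node (.node (.node (.leaf ⟨47,[41,47,41,47,41],39,4⟩) (.leaf ⟨42,[42,42],12,1⟩)) (.leaf ⟨42,[45,42,45],22,1⟩)) (.node (.leaf ⟨47,[46,47,46],37,2⟩) (.leaf ⟨48,[42,46,43,48,42,47,43],45,4⟩))))) (.node (.node (.node (.node (.node (.leaf ⟨42,[43],10,0⟩) (.leaf ⟨44,[47,44,38,48,38,44,47,44,48],47,6⟩)) (.leaf ⟨47,[39,47,39],36,2⟩)) (.node (.node (.leaf ⟨40,[39,40,39],7,2⟩) (.leaf ⟨42,[46,42,46,42,46],32,5⟩)) (.leaf ⟨44,[45,44,45],23,1⟩))) (.node (.node (.node (.leaf ⟨39,[46,38,46,38],30,4⟩) (.leaf ⟨47,[48,47,48,47,48],44,5⟩)) (.leaf ⟨45,[46,45,46,45,46],33,5⟩)) (.node (.leaf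 ⟨46,[42,46,42,46,42],32,4⟩) (.leaf ⟨42,[46,43,48,42,47,43,48],45,5⟩)))) (.node (.node (.node (.node (.leaf ⟨41,[42,38,43],13,3⟩) (.leaf ⟨40,[38,40,38],5,0⟩)) (.leaf ⟨45,[40,48,40,45,44,40,48,40,44],50,9⟩)) (.node (.node (.leaf ⟨39,[41,44,40,44],19,3⟩) (.leaf ⟨47,[39,45,46,45,39,47,45],40,2⟩)) (.leaf ⟨41,[42,45,41,45,38,45],25,5⟩))) (.node (.node (.node (.leaf ⟨39,[48,39,48,39,48],42,3⟩) (.leaf ⟨48,[42,47,46,43,40,48,40],46,2⟩)) (.leaf ⟨45,[47,39,45,46,45,39,47],40,1⟩)) (.node (.leaf ⟨38,[43,41,42],13,1⟩) (.leaf ⟨48,[38,44,47,44,48,44,47,44,38],47,0⟩)))))) (.node (.node (.node (.node (.node (.node (.leaf ⟨39,[39],1,1⟩) (.leaf ⟨48,[41,48,38,44,48,40,48,44,38],48,8⟩)) (.leaf ⟨41,[40,41,40],9,3⟩)) (.node (.node (.leaf ⟨40,[48,40,48,42,47,46,43],46,7⟩) (.leaf ⟨38,[39,46,38,46],30,3⟩)) (.leaf ⟨42,[45,42,45],22,3⟩)))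 (.node (.node (.node (.leaf ⟨39,[38,39,38],2,0⟩) (.leaf ⟨48,[46,48,46,48,46],43,0⟩)) (.leaf ⟨45,[46,45,46,45,46],33,3⟩)) (.node (.leaf ⟨46,[39,40,41,46,41],31,2⟩) (.leaf ⟨48,[40,44,45,40,48,40,45,44,40],50,6⟩)))) (.node (.node (.node (.node (.leaf ⟨40,[40],3,1⟩) (.leaf ⟨39,[45,39,45,39,45],24,5⟩)) (.leaf ⟨38,[41,38,41],6,3⟩)) (.node (.node (.leaf ⟨40,[47,40,46,47],38,1⟩) (.leaf ⟨48,[39,48,39,48,39],42,0⟩)) (.leaf ⟨46,[45,46,45,46,45],33,2⟩))) (.node (.node (.node (.leaf ⟨48,[46,48,46,48,46],43,4⟩) (.leaf ⟨45,[39,45,39,45,39],24,0⟩)) (.leaf ⟨44,[42,44,42,44,42],20,4⟩)) (.node (.leaf ⟨41,[38,41,38],6,2⟩) (.leaf ⟨38,[48,38,48,38,48,38,48],49,3⟩))))) (.node (.node (.node (.node (.node (.leaf ⟨46,[46],27,1⟩) (.leaf ⟨48,[38,44,48,40,48,44,38,48,41],48,0⟩)) (.leaf ⟨42,[44,46,38,41,42,44,46],34,1⟩)) (.node (.node (.leaf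 ⟨40,[46,40,46],29,3⟩) (.leaf ⟨43,[48,40,42,47,48,46,47,48],51,5⟩)) (.leaf ⟨46,[42,46,42,46,42],32,2⟩))) (.node (.node (.node (.leaf ⟨46,[39,46,39],28,0⟩) (.leaf ⟨41,[38,41,38],6,0⟩)) (.leaf ⟨45,[41,45,38,45,41,42],25,0⟩)) (.node (.leaf ⟨47,[44,38,48,38,44,47,44,48,44],47,7⟩) (.leaf ⟨48,[40,48,42,47,46,43,40],46,0⟩)))) (.node (.node (.node (.node (.leaf ⟨39,[46,39,46],28,3⟩) (.leaf ⟨47,[46,47,46],37,0⟩)) (.leaf ⟨45,[39,44,39,45,38,39,41],26,0⟩)) (.node (.leaf ⟨46,[40,46,40],29,2⟩) (.leaf ⟨42,[38,43,41],13,0⟩))) (.node (.node (.node (.leaf ⟨46,[43,48,42,47,43,48,42],45,6⟩) (.leaf ⟨46,[47,46,47],37,1⟩)) (.leaf ⟨44,[46,38,41,42,44,46,42],34,2⟩)) (.node (.leaf ⟨39,[44,38,41,44],18,1⟩) (.leaf ⟨39,[40,39,40],7,1⟩))))))) (.node (.node (.node (.node (.node (.node (.node (.leaf ⟨38,[38],0,1⟩) (.leaf ⟨46,[41,46,39,40,41],31,0⟩))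 (.leaf ⟨38,[39,38,39],2,1⟩)) (.node (.node (.leaf ⟨46,[42,46,42,46,42],32,0⟩) (.leaf ⟨38,[48,38,48,38,48,38,48],49,7⟩)) (.leaf ⟨38,[41,44,39,44],18,3⟩))) (.node (.node (.node (.leaf ⟨46,[47,46,47],37,3⟩) (.leaf ⟨39,[48,39,48,39,48],42,5⟩)) (.leaf ⟨45,[42,45,42],22,2⟩)) (.node (.leaf ⟨47,[40,47,40,46],38,0⟩) (.leaf ⟨43,[39,42,39,40],16,0⟩)))) (.node (.node (.node (.node (.leaf ⟨41,[41],4,1⟩) (.leaf ⟨39,[41,39,41],8,1⟩)) (.leaf ⟨38,[40,38,40],5,3⟩)) (.node (.node (.leaf ⟨40,[46,47,40,47],38,3⟩) (.leaf ⟨48,[46,47,48,43,48,40,42,47],51,1⟩)) (.leaf ⟨46,[38,39,46,38],30,2⟩))) (.node (.node (.node (.leaf ⟨48,[39,48,39,48,39],42,4⟩) (.leaf ⟨44,[42,44,42,44,42],20,0⟩)) (.leaf ⟨44,[45,44,45],23,3⟩)) (.node (.leaf ⟨41,[48,38,44,48,40,48,44,38,48],48,9⟩) (.leaf ⟨48,[38,48,38,48,38,48,38],49,2⟩))))) (.node (.node (.node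 (.node (.node (.leaf ⟨44,[44],17,1⟩) (.leaf ⟨44,[48,44,47,44,38,48,38,44,47],47,4⟩)) (.leaf ⟨41,[47,41,47,41,47],39,5⟩)) (.node (.node (.leaf ⟨39,[43,40,42],14,1⟩) (.leaf ⟨41,[44,40,44,39],19,4⟩)) (.leaf ⟨46,[47,40,47,40],38,4⟩))) (.node (.node (.node (.leaf ⟨38,[46,38,39,46],30,1⟩) (.leaf ⟨39,[48,39,48,39,48],42,1⟩)) (.leaf ⟨42,[45,41,45,38,45,41],25,6⟩)) (.node (.leaf ⟨40,[48,42,47,46,43,40,48],46,1⟩) (.leaf ⟨43,[48,42,47,43,48,42,46],45,7⟩)))) (.node (.node (.node (.node (.leaf ⟨40,[42,39,43],14,3⟩) (.leaf ⟨46,[48,46,48,46,48],43,5⟩)) (.leaf ⟨45,[38,39,41,45,39,44,39],26,4⟩)) (.node (.node (.leaf ⟨40,[43,39,42,39],16,4⟩) (.leaf ⟨44,[39,45,38,39,41,45,39],26,2⟩)) (.leaf ⟨41,[45,38,45,41,42,45],25,1⟩))) (.node (.node (.node (.leaf ⟨48,[47,48,47,48,47],44,4⟩) (.leaf ⟨47,[48,47,48,47,48],44,1⟩)) (.leaf ⟨44,[46,42,44,46,38,41,42],34,7⟩))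 (.node (.leaf ⟨38,[42,38,41,43],15,1⟩) (.leaf ⟨48,[44,47,44,38,48,38,44,47,44],47,5⟩)))))) (.node (.node (.node (.node (.node (.node (.leaf ⟨43,[42],10,1⟩) (.leaf ⟨42,[47,46,43,40,48,40,48],46,3⟩)) (.leaf ⟨44,[39,41,44,40],19,2⟩)) (.node (.node (.leaf ⟨40,[38,40,38],5,2⟩) (.leaf ⟨47,[46,43,40,48,40,48,42],46,4⟩)) (.leaf ⟨45,[42,45,42],22,0⟩))) (.node (.node (.node (.leaf ⟨39,[41,39,41],8,3⟩) (.leaf ⟨48,[39,48,39,48,39],42,2⟩)) (.leaf ⟨45,[39,45,39,45,39],24,2⟩)) (.node (.leaf ⟨47,[40,46,47,40],38,2⟩) (.leaf ⟨47,[48,47,48,47,48],44,3⟩)))) (.node (.node (.node (.node (.leaf ⟨38,[39,38,39],2,3⟩) (.leaf ⟨46,[39,46,39],28,2⟩)) (.leaf ⟨45,[44,40,48,40,44,45,40,48,40],50,3⟩)) (.node (.node (.leaf ⟨40,[41,40,41],9,2⟩) (.leaf ⟨45,[44,45,44],23,0⟩)) (.leaf ⟨41,[43,38,42,38],15,4⟩))) (.node (.node (.node (.leaf ⟨46,[48,46,48,46,48],43,3⟩)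 (.leaf ⟨48,[38,48,38,48,38,48,38],49,6⟩)) (.leaf ⟨45,[44,45,44],23,2⟩)) (.node (.leaf ⟨41,[39,41,39],8,2⟩) (.leaf ⟨48,[40,45,44,40,48,40,44,45,40],50,1⟩))))) (.node (.node (.node (.node (.node (.leaf ⟨47,[47],35,1⟩) (.leaf ⟨48,[47,48,47,48,47],44,2⟩)) (.leaf ⟨40,[48,44,38,48,41,48,38,44,48],48,4⟩)) (.node (.node (.leaf ⟨39,[42,39,40,43],16,1⟩) (.leaf ⟨42,[47,48,46,47,48,43,48,40],51,8⟩)) (.leaf ⟨44,[42,44,42,44,42],20,2⟩))) (.node (.node (.node (.leaf ⟨41,[44,39,44,38],18,4⟩) (.leaf ⟨43,[38,42,38,41],15,0⟩)) (.leaf ⟨43,[40,42,39],14,2⟩)) (.node (.leaf ⟨47,[44,48,44,47,44,38,48,38,44],47,3⟩) (.leaf ⟨47,[39,47,39],36,0⟩)))) (.node (.node (.node (.node (.leaf ⟨39,[47,39,47],36,3⟩) (.leaf ⟨44,[40,44,39,41],19,0⟩)) (.leaf ⟨45,[39,47,45,47,39,45,46],40,6⟩)) (.node (.leaf ⟨41,[46,39,40,41,46],31,1⟩) (.leaf ⟨41,[39,41,39],8,0⟩)))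 (.node (.node (.node (.leaf ⟨47,[43,48,42,46,43,48,42],45,2⟩) (.leaf ⟨41,[40,41,40],9,1⟩)) (.leaf ⟨44,[38,41,44,39],18,2⟩)) (.node (.leaf ⟨40,[44,39,41,44],19,1⟩) (.leaf ⟨39,[40,39,40],7,3⟩))))))))
noncomputable def tc0 : TCL := ⟨[38,39,40,41,42,43,44,45,46,47,48], [38,39,40,41,42,43,44,45,46,47], 100, 28, 0xfff, 12, 0xff,
  fun a x => look 0xfffffff (nth tc0T 0 a) x, fun x => look 0xfffffff tc0d x, tc0r⟩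
noncomputable def tc1T : List ℕ := [0,0,0,0,0,0,0,0,0,0,0,0,0,0,0,0,0,0,0,0,0,0,0,0,0,0,0,0,0,0,0,0,0,0,0,0,0,0,tc1t38,tc1t39,tc1t40,tc1t41,tc1t42,tc1t43,tc1t44,tc1t45,tc1t46,tc1t47]
noncomputable def tc1r : Tr Rule := (.node (.node (.node (.node (.node (.node (.node (.leaf ⟨47,[47],35,1⟩) (.leaf ⟨44,[45,44,45],23,3⟩)) (.leaf ⟨40,[39,40,39],7,2⟩)) (.node (.node (.leaf ⟨39,[41,39,41],8,3⟩) (.leaf ⟨43,[40,42,39],14,2⟩)) (.leaf ⟨38,[40,38,40],5,3⟩))) (.node (.node (.node (.leaf ⟨46,[46],27,1⟩) (.leaf ⟨47,[45,47,39,45,46,45,39],40,0⟩)) (.leaf ⟨45,[38,39,41,45,39,44,39],26,4⟩)) (.node (.leaf ⟨46,[47,46,47],37,3⟩) (.leaf ⟨41,[46,39,40,41,46],31,1⟩)))) (.node (.node (.node (.node (.leaf ⟨45,[45],21,1⟩) (.leaf ⟨40,[39,40,39],7,0⟩)) (.leaf ⟨47,[41,47,41,47,41],39,4⟩)) (.node (.leaf ⟨41,[42,38,43],13,3⟩) (.leaf ⟨44,[42,44,42,44,42],20,4⟩)))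 (.node (.node (.node (.leaf ⟨39,[44,38,41,44],18,1⟩) (.leaf ⟨41,[47,41,47,41,47],39,3⟩)) (.leaf ⟨43,[41,42,38],13,2⟩)) (.node (.leaf ⟨40,[38,40,38],5,2⟩) (.leaf ⟨42,[46,42,46,42,46],32,3⟩))))) (.node (.node (.node (.node (.node (.leaf ⟨41,[41],4,1⟩) (.leaf ⟨46,[47,46,47],37,1⟩)) (.leaf ⟨41,[40,41,40],9,1⟩)) (.node (.leaf ⟨40,[44,39,41,44],19,1⟩) (.leaf ⟨41,[40,41,40],9,3⟩))) (.node (.node (.node (.leaf ⟨42,[42,42],12,2⟩) (.leaf ⟨47,[46,47,46],37,2⟩)) (.leaf ⟨41,[42,45,41,45,38,45],25,5⟩)) (.node (.leaf ⟨45,[46,45,46,45,46],33,3⟩) (.leaf ⟨46,[40,46,40],29,2⟩)))) (.node (.node (.node (.node (.leaf ⟨42,[43],10,0⟩) (.leaf ⟨47,[40,46,47,40],38,2⟩)) (.leaf ⟨45,[44,45,44],23,2⟩)) (.node (.leaf ⟨38,[39,38,39],2,1⟩) (.leaf ⟨44,[39,44,38,41],18,0⟩))) (.node (.node (.node (.leaf ⟨39,[47,39,47],36,3⟩) (.leaf ⟨47,[46,47,46],37,0⟩))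 (.leaf ⟨38,[43,41,42],13,1⟩)) (.node (.leaf ⟨39,[41,44,40,44],19,3⟩) (.leaf ⟨44,[46,42,44,46,38,41,42],34,7⟩)))))) (.node (.node (.node (.node (.node (.node (.leaf ⟨38,[38],0,1⟩) (.leaf ⟨47,[39,45,46,45,39,47,45],40,2⟩)) (.leaf ⟨38,[40,38,40],5,1⟩)) (.node (.node (.leaf ⟨41,[44,39,44,38],18,4⟩) (.leaf ⟨42,[45,42,45],22,3⟩)) (.leaf ⟨39,[40,39,40],7,3⟩))) (.node (.node (.node (.leaf ⟨38,[41,38,41],6,3⟩) (.leaf ⟨47,[41,47,41,47,41],39,2⟩)) (.leaf ⟨45,[39,44,39,45,38,39,41],26,0⟩)) (.node (.leaf ⟨46,[38,39,46,38],30,2⟩) (.leaf ⟨46,[38,41,42,44,46,42,44],34,3⟩)))) (.node (.node (.node (.node (.leaf ⟨43,[42],10,1⟩) (.leaf ⟨41,[39,41,39],8,0⟩)) (.leaf ⟨45,[47,39,45,46,45,39,47],40,1⟩)) (.node (.leaf ⟨39,[42,39,40,43],16,1⟩) (.leaf ⟨44,[40,44,39,41],19,0⟩))) (.node (.node (.node (.leaf ⟨39,[39],1,1⟩) (.leaf ⟨46,[45,39,47,45,47,39,45],40,5⟩))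 (.leaf ⟨42,[42,42],12,1⟩)) (.node (.leaf ⟨40,[41,40,41],9,2⟩) (.leaf ⟨42,[39,43,40],14,0⟩))))) (.node (.node (.node (.node (.node (.leaf ⟨44,[44],17,1⟩) (.leaf ⟨38,[39,38,39],2,3⟩)) (.leaf ⟨44,[38,41,44,39],18,2⟩)) (.node (.leaf ⟨38,[42,38,41,43],15,1⟩) (.leaf ⟨39,[46,39,46],28,3⟩))) (.node (.node (.node (.leaf ⟨40,[46,40,46],29,3⟩) (.leaf ⟨47,[39,47,39],36,2⟩)) (.leaf ⟨42,[45,41,45,38,45,41],25,6⟩)) (.node (.leaf ⟨40,[46,47,40,47],38,3⟩) (.leaf ⟨46,[39,46,39],28,2⟩)))) (.node (.node (.node (.node (.leaf ⟨40,[40],3,1⟩) (.leaf ⟨47,[40,47,40,46],38,0⟩)) (.leaf ⟨45,[42,45,42],22,2⟩)) (.node (.leaf ⟨40,[42,39,43],14,3⟩) (.leaf ⟨38,[46,38,39,46],30,1⟩))) (.node (.node (.node (.leaf ⟨39,[38,39,38],2,2⟩) (.leaf ⟨41,[39,41,39],8,2⟩)) (.leaf ⟨39,[43,40,42],14,1⟩)) (.node (.leaf ⟨46,[41,46,39,40,41],31,0⟩) (.leaf ⟨44,[46,38,41,42,44,46,42],34,2⟩)))))))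
noncomputable def tc1 : TCL := ⟨[38,39,40,41,42,43,44,45,46,47], [38,39,40,41,42,43,44,45,46], 22, 24, 0x3ff, 10, 0x7f,
  fun a x => look 0xffffff (nth tc1T 0 a) x, fun x => look 0xffffff tc1d x, tc1r⟩
noncomputable def tc2T : List ℕ := [0,0,0,0,0,0,0,0,0,0,0,0,0,0,0,0,0,0,0,0,0,0,0,0,0,0,0,0,0,0,0,0,0,0,0,0,0,0,tc2t38,tc2t39,tc2t40,tc2t41,tc2t42,tc2t43,tc2t44,tc2t45,tc2t46]
noncomputable def tc2r : Tr Rule := (.node (.node (.node (.node (.node (.node (.node (.leaf ⟨46,[46],27,1⟩) (.leaf ⟨46,[39,40,41,46,41],31,2⟩)) (.leaf ⟨38,[42,38,41,43],15,1⟩)) (.node (.leaf ⟨41,[43,38,42,38],15,4⟩) (.leaf ⟨39,[38,39,38],2,2⟩))) (.node (.node (.leaf ⟨41,[41],4,1⟩) (.leaf ⟨44,[42,44,42,44,42],20,4⟩)) (.node (.leaf ⟨39,[42,39,40,43],16,1⟩) (.leaf ⟨38,[40,38,40],5,3⟩)))) (.node (.node (.node (.leaf ⟨44,[44],17,1⟩) (.leaf ⟨45,[41,42,45,41,45,38],25,4⟩))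 (.node (.leaf ⟨40,[42,39,43],14,3⟩) (.leaf ⟨39,[41,39,41],8,3⟩))) (.node (.node (.leaf ⟨42,[38,43,41],13,0⟩) (.leaf ⟨46,[40,46,40],29,2⟩)) (.node (.leaf ⟨40,[44,39,41,44],19,1⟩) (.leaf ⟨42,[39,43,40],14,0⟩))))) (.node (.node (.node (.node (.leaf ⟨42,[43],10,0⟩) (.leaf ⟨41,[44,40,44,39],19,4⟩)) (.node (.leaf ⟨40,[43,39,42,39],16,4⟩) (.leaf ⟨41,[39,41,39],8,0⟩))) (.node (.node (.leaf ⟨42,[45,42,45],22,3⟩) (.leaf ⟨46,[45,46,45,46,45],33,4⟩)) (.node (.leaf ⟨38,[39,46,38,46],30,3⟩) (.leaf ⟨39,[41,39,41],8,1⟩)))) (.node (.node (.node (.leaf ⟨39,[39],1,1⟩) (.leaf ⟨44,[39,45,38,39,41,45,39],26,2⟩)) (.node (.leaf ⟨40,[46,40,46],29,3⟩) (.leaf ⟨41,[40,41,40],9,1⟩))) (.node (.node (.leaf ⟨43,[41,42,38],13,2⟩) (.leaf ⟨42,[44,42,44,42,44],20,3⟩)) (.node (.leaf ⟨41,[46,41,46,39,40],31,5⟩) (.leaf ⟨46,[38,46,38,39],30,0⟩))))))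 (.node (.node (.node (.node (.node (.node (.leaf ⟨43,[42],10,1⟩) (.leaf ⟨46,[45,46,45,46,45],33,2⟩)) (.leaf ⟨39,[44,38,41,44],18,1⟩)) (.node (.leaf ⟨38,[41,38,41],6,1⟩) (.leaf ⟨40,[39,40,39],7,2⟩))) (.node (.node (.leaf ⟨42,[42,42],12,2⟩) (.leaf ⟨46,[42,46,42,46,42],32,4⟩)) (.node (.leaf ⟨45,[42,45,42],22,2⟩) (.leaf ⟨40,[39,40,39],7,0⟩)))) (.node (.node (.node (.leaf ⟨38,[38],0,1⟩) (.leaf ⟨45,[38,45,41,42,45,41],25,2⟩)) (.node (.leaf ⟨45,[39,45,39,45,39],24,4⟩) (.leaf ⟨41,[40,41,40],9,3⟩))) (.node (.node (.leaf ⟨43,[40,42,39],14,2⟩) (.leaf ⟨44,[46,42,44,46,38,41,42],34,7⟩)) (.node (.leaf ⟨45,[41,45,38,45,41,42],25,0⟩) (.leaf ⟨38,[39,38,39],2,3⟩))))) (.node (.node (.node (.node (.leaf ⟨45,[45],21,1⟩) (.leaf ⟨38,[41,44,39,44],18,3⟩)) (.node (.leaf ⟨39,[46,39,46],28,3⟩) (.leaf ⟨38,[41,38,41],6,3⟩))) (.node (.node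 (.leaf ⟨44,[45,44,45],23,3⟩) (.leaf ⟨46,[39,46,39],28,2⟩)) (.node (.leaf ⟨41,[42,38,43],13,3⟩) (.leaf ⟨40,[41,40,41],9,2⟩)))) (.node (.node (.node (.leaf ⟨40,[40],3,1⟩) (.leaf ⟨44,[40,44,39,41],19,0⟩)) (.node (.leaf ⟨39,[43,40,42],14,1⟩) (.leaf ⟨40,[41,40,41],9,0⟩))) (.node (.node (.leaf ⟨42,[42,42],12,1⟩) (.leaf ⟨38,[40,38,40],5,1⟩)) (.node (.leaf ⟨38,[43,41,42],13,1⟩) (.leaf ⟨46,[41,46,39,40,41],31,0⟩)))))))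
noncomputable def tc2 : TCL := ⟨[38,39,40,41,42,43,44,45,46], [38,39,40,41,42,43,44,45], 21, 24, 0x1ff, 9, 0x7f,
  fun a x => look 0xffffff (nth tc2T 0 a) x, fun x => look 0xffffff tc2d x, tc2r⟩
noncomputable def tc3T : List ℕ := [0,0,0,0,0,0,0,0,0,0,0,0,0,0,0,0,0,0,0,0,0,0,0,0,0,0,0,0,0,0,0,0,0,0,0,0,0,0,tc3t38,tc3t39,tc3t40,tc3t41,tc3t42,tc3t43,tc3t44,tc3t45]
noncomputable def tc3r : Tr Rule := (.node (.node (.node (.node (.node (.leaf ⟨45,[45],21,1⟩) (.leaf ⟨42,[38,41,43,38],15,2⟩)) (.leaf ⟨44,[45,44,45],23,3⟩)) (.node (.node (.leaf ⟨42,[45,42,45],22,3⟩) (.leaf ⟨44,[40,44,39,41],19,0⟩)) (.leaf ⟨39,[41,45,39,44,39,45,38],26,6⟩))) (.node (.node (.node (.leaf ⟨39,[39],1,1⟩) (.leaf ⟨40,[42,39,43],14,3⟩)) (.leaf ⟨45,[41,42,45,41,45,38],25,4⟩)) (.node (.leaf ⟨43,[41,42,38],13,2⟩) (.leaf ⟨38,[39,38,39],2,1⟩))))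 (.node (.node (.node (.node (.leaf ⟨38,[38],0,1⟩) (.leaf ⟨42,[42,42],12,2⟩)) (.leaf ⟨45,[39,45,39,45,39],24,4⟩)) (.node (.leaf ⟨43,[42],10,1⟩) (.leaf ⟨44,[39,45,38,39,41,45,39],26,2⟩))) (.node (.node (.node (.leaf ⟨41,[41],4,1⟩) (.leaf ⟨40,[40],3,1⟩)) (.leaf ⟨45,[38,45,41,42,45,41],25,2⟩)) (.node (.leaf ⟨42,[43],10,0⟩) (.leaf ⟨41,[39,41,39],8,0⟩)))))
noncomputable def tc3 : TCL := ⟨[38,39,40,41,42,43,44,45], [38,39,40,41,42,43,44], 5, 16, 0x7f, 7, 0x1f,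
  fun a x => look 0xffff (nth tc3T 0 a) x, fun x => look 0xffff tc3d x, tc3r⟩
noncomputable def tc4T : List ℕ := [0,0,0,0,0,0,0,0,0,0,0,0,0,0,0,0,0,0,0,0,0,0,0,0,0,0,0,0,0,0,0,0,0,0,0,0,0,0,tc4t38,tc4t39,tc4t40,tc4t41,tc4t42,tc4t43,tc4t44]
noncomputable def tc4r : Tr Rule := (.node (.node (.node (.node (.leaf ⟨44,[44],17,1⟩) (.leaf ⟨38,[43,41,42],13,1⟩)) (.node (.leaf ⟨39,[44,38,41,44],18,1⟩) (.leaf ⟨39,[42,39,40,43],16,1⟩))) (.node (.node (.leaf ⟨42,[43],10,0⟩) (.leaf ⟨38,[41,44,39,44],18,3⟩)) (.node (.leaf ⟨41,[44,40,44,39],19,4⟩) (.leaf ⟨41,[43,38,42,38],15,4⟩)))) (.node (.node (.node (.leaf ⟨43,[42],10,1⟩) (.leaf ⟨39,[43,40,42],14,1⟩)) (.node (.leaf ⟨40,[42,39,43],14,3⟩) (.leaf ⟨38,[41,43,38,42],15,3⟩))) (.node (.node (.leaf ⟨42,[42,42],12,2⟩) (.leaf ⟨41,[42,38,43],13,3⟩)) (.node (.leaf ⟨40,[44,39,41,44],19,1⟩)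 (.leaf ⟨44,[42,44,42,44,42],20,4⟩)))))
noncomputable def tc4 : TCL := ⟨[38,39,40,41,42,43,44], [38,39,40,41,42,43], 4, 16, 0x7f, 7, 0x1f,
  fun a x => look 0xffff (nth tc4T 0 a) x, fun x => look 0xffff tc4d x, tc4r⟩
noncomputable def tc5T : List ℕ := [0,0,0,0,0,0,0,0,0,0,0,0,0,0,0,0,0,0,0,0,0,0,0,0,0,0,0,0,0,0,0,0,0,0,0,0,0,0,tc5t38,tc5t39,tc5t40,tc5t41,tc5t42,tc5t43]
noncomputable def tc5r : Tr Rule := (.node (.node (.node (.node (.leaf ⟨43,[42],10,1⟩) (.leaf ⟨38,[42,38,41,43],15,1⟩)) (.leaf ⟨38,[43,41,42],13,1⟩)) (.node (.node (.leaf ⟨42,[42,42],12,2⟩) (.leaf ⟨39,[42,39,40,43],16,1⟩)) (.leaf ⟨39,[43,40,42],14,1⟩))) (.node (.node (.node (.leaf ⟨42,[43],10,0⟩) (.leaf ⟨40,[43,39,42,39],16,4⟩)) (.leaf ⟨40,[42,39,43],14,3⟩)) (.node (.leaf ⟨41,[42,38,43],13,3⟩) (.leaf ⟨41,[43,38,42,38],15,4⟩))))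
noncomputable def tc5 : TCL := ⟨[38,39,40,41,42,43], [38,39,40,41], 3, 16, 0x3f, 6, 0xf,
  fun a x => look 0xffff (nth tc5T 0 a) x, fun x => look 0xffff tc5d x, tc5r⟩
noncomputable def tc6T : List ℕ := [0,0,0,0,0,0,0,0,0,0,0,0,0,0,0,0,0,0,0,0,0,0,0,0,0,0,0,0,0,0,0,0,0,0,0,0,0,0,tc6t38,tc6t39,tc6t40,tc6t41]
noncomputable def tc6r : Tr Rule := (.node (.node (.node (.leaf ⟨40,[40],3,1⟩) (.leaf ⟨39,[40,39,40],7,3⟩)) (.node (.leaf ⟨38,[40,38,40],5,3⟩) (.leaf ⟨40,[41,40,41],9,2⟩))) (.node (.node (.leaf ⟨41,[41],4,1⟩) (.leaf ⟨39,[41,39,41],8,3⟩)) (.leaf ⟨38,[41,38,41],6,3⟩)))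
noncomputable def tc6 : TCL := ⟨[38,39,40,41], [38,39], 4, 16, 0x7f, 7, 0xf,
  fun a x => look 0xffff (nth tc6T 0 a) x, fun x => look 0xffff tc6d x, tc6r⟩
noncomputable def tc7T : List ℕ := [0,0,0,0,0,0,0,0,0,0,0,0,0,0,0,0,0,0,0,0,0,0,0,0,0,0,0,0,0,0,0,0,0,0,0,0,0,0,tc7t38,tc7t39]
noncomputable def tc7r : Tr Rule := (.node (.leaf ⟨39,[39],1,1⟩) (.leaf ⟨38,[39,38,39],2,3⟩))
noncomputable def tc7 : TCL := ⟨[38,39], [38], 2, 16, 0x3f, 6, 0x7,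
  fun a x => look 0xffff (nth tc7T 0 a) x, fun x => look 0xffff tc7d x, tc7r⟩
noncomputable def tc8T : List ℕ := [0,0,0,0,0,0,0,0,0,0,0,0,0,0,0,0,0,0,0,0,0,0,0,0,0,0,0,0,0,0,0,0,0,0,0,0,0,0,tc8t38]
noncomputable def tc8r : Tr Rule := (.leaf ⟨38,[38],0,1⟩)
noncomputable def tc8 : TCL := ⟨[38], [], 2, 16, 0x3f, 6, 0x3,
  fun a x => look 0xffff (nth tc8T 0 a) x, fun x => look 0xffff tc8d x, tc8r⟩
noncomputable def tc : List TCL := [tc0, tc1, tc2, tc3, tc4, tc5, tc6, tc7, tc8]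
noncomputable def inW : List (List ℕ) := [[41,47,42,48,45,38,47,43,38,45,46,45,39,38],
  [44,38,48,46,40,45,38,47,45,42,46,41,45,43,44,41,39,38],
  [38,44,48,40,45,38,47,39,45,43,46,41,45,42,44,43]]
noncomputable def tcS : List ℕ := [38,39,40,41,42,43,44,45,46,47,48]

end Cfsg.Agent.CG.HS
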