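import Cfsg.Agent.Lib.Grp.HS.ODefs

set_option autoImplicit false
set_option maxRecDepth 100000
set_option Elab.async false

namespace Cfsg.Agent.CG.HS

theorem Oc153 : cc0.chk (appT tabs t67 0xfff) 1 79 = true := by decide +kernel
theorem Oc154 : cc1.chk (appT tabs t67 0xfff) 1 15 = true := by decide +kernel
theorem Oc155 : cc2.chk (appT tabs t67 0xfff) 1 5 = true := by decide +kernel
theorem Oc156 : okcb 100 12 (bases cc) = true := by decide +kernel
theorem Oc157 : headAll (appT tabs t67 0xfff) cc [] = true := by decide +kernel
theorem Oc158 : tp0.head tpR = true := by decide +kernel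
theorem Oc159 : allL (fun a => tp0.chk a 0 tp0.N) tp0.S = true := by decide +kernel
theorem Oc160 : tp1.head tpR = true := by decide +kernel
theorem Oc161 : allL (fun a => tp1.chk a 0 tp1.N) tp1.S = true := by decide +kernel
theorem Oc162 : tcLink tp [] [49,50,51,52] = true := by decide +kernel
theorem Oc163 : pc0.chk (appT tabs t67 0xfff) 1 63 = true := by decide +kernel
theorem Oc164 : pc1.chk (appT tabs t67 0xfff) 1 7 = true := by decide +kernel
theorem Oc165 : okcb 100 12 (bases pc) = true := by decide +kernel
theorem Oc166 : headAll (appT tabs t67 0xfff) pc [] = true := by decide +kernel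
theorem Oc167 : allL (fun v => eqW (appT tabs t67 0xfff) bs v []) tpR = true := by decide +kernel
theorem Oc168 : trChk (appT tabs t67 0xfff) mc0 [mc1, mc2, mc3, mc4, mc5, mc6, mc7, mc8] bs (diagQ pQ) (diagQ pR) pF 0 100 = true := by decide +kernel
theorem Oc169 : classChk (appT tabs t67 0xfff) bs 8 2 53 [13,10,19,15,21,21,26,26,30,32,35] pS pF pU = true := by decide +kernel
theorem Oc170 : powChk (appT tabs t67 0xfff) bs 6 11 aK nK = true := by decide +kernel
theorem Oc171 : en.chk (appT tabs t67 0xfff) tst 0 3326 0 158769215046008916 = true := by decide +kernel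
theorem Oc172 : en.chk (appT tabs t67 0xfff) tst 3326 2449 158769215046008916 334472264219935669 = true := by decide +kernel
theorem Oc173 : commAll (appT tabs t67 0xfff) bs 8 cc = true := by decide +kernel
theorem Oc174 : relChk (appT tabs t67 0xfff) bs 6 8 rT = true := by decide +kernel
theorem Oc175 : eqW (appT tabs t67 0xfff) bs (substW img [38,38]) [] = true := by decide +kernel
theorem Oc176 : eqW (appT tabs t67 0xfff) bs (substW img [39,39]) [] = true := by decide +kernel
theorem Oc177 : eqW (appT tabs t67 0xfff) bs (substW img [39,38,39,38]) [] = true := by decide +kernel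
theorem Oc178 : eqW (appT tabs t67 0xfff) bs (substW img [40,40]) [] = true := by decide +kernel
theorem Oc179 : eqW (appT tabs t67 0xfff) bs (substW img [41,41]) [] = true := by decide +kernel
theorem Oc180 : eqW (appT tabs t67 0xfff) bs (substW img [40,38,40,38]) [] = true := by decide +kernel
theorem Oc181 : eqW (appT tabs t67 0xfff) bs (substW img [41,38,41,38]) [] = true := by decide +kernel
theorem Oc182 : eqW (appT tabs t67 0xfff) bs (substW img [40,39,40,39]) [] = true := by decide +kernel
theorem Oc183 : eqW (appT tabs t67 0xfff) bs (substW img [41,39,41,39]) [] = true := by decide +kernel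
theorem Oc184 : eqW (appT tabs t67 0xfff) bs (substW img [40,41,40,41]) [] = true := by decide +kernel
theorem Oc185 : eqW (appT tabs t67 0xfff) bs (substW img [42,43]) [] = true := by decide +kernel
theorem Oc186 : eqW (appT tabs t67 0xfff) bs (substW img [43,42]) [] = true := by decide +kernel
theorem Oc187 : eqW (appT tabs t67 0xfff) bs (substW img [42,42,42]) [] = true := by decide +kernel
theorem Oc188 : eqW (appT tabs t67 0xfff) bs (substW img [42,38,43,41]) [] = true := by decide +kernel
theorem Oc189 : eqW (appT tabs t67 0xfff) bs (substW img [42,39,43,40]) [] = true := by decide +kernel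
theorem Oc190 : eqW (appT tabs t67 0xfff) bs (substW img [43,38,42,38,41]) [] = true := by decide +kernel
theorem Oc191 : eqW (appT tabs t67 0xfff) bs (substW img [43,39,42,39,40]) [] = true := by decide +kernel
theorem Oc192 : eqW (appT tabs t67 0xfff) bs (substW img [44,44]) [] = true := by decide +kernel
theorem Oc193 : eqW (appT tabs t67 0xfff) bs (substW img [44,39,44,38,41]) [] = true := by decide +kernel
theorem Oc194 : eqW (appT tabs t67 0xfff) bs (substW img [44,40,44,39,41]) [] = true := by decide +kernel
theorem Oc195 : eqW (appT tabs t67 0xfff) bs (substW img [44,42,44,42,44,42]) [] = true := by decide +kernel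
theorem Oc196 : eqW (appT tabs t67 0xfff) bs (substW img [45,45]) [] = true := by decide +kernel
theorem Oc197 : eqW (appT tabs t67 0xfff) bs (substW img [45,42,45,42]) [] = true := by decide +kernel
theorem Oc198 : eqW (appT tabs t67 0xfff) bs (substW img [45,44,45,44]) [] = true := by decide +kernel
theorem Oc199 : eqW (appT tabs t67 0xfff) bs (substW img [45,39,45,39,45,39]) [] = true := by decide +kernel
theorem Oc200 : eqW (appT tabs t67 0xfff) bs (substW img [45,41,45,38,45,41,42]) [] = true := by decide +kernel
theorem Oc201 : eqW (appT tabs t67 0xfff) bs (substW img [45,39,44,39,45,38,39,41]) [] = true := by decide +kernel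
theorem Oc202 : eqW (appT tabs t67 0xfff) bs (substW img [46,46]) [] = true := by decide +kernel
theorem Oc203 : eqW (appT tabs t67 0xfff) bs (substW img [46,39,46,39]) [] = true := by decide +kernel
theorem Oc204 : eqW (appT tabs t67 0xfff) bs (substW img [46,40,46,40]) [] = true := by decide +kernel
theorem Oc205 : eqW (appT tabs t67 0xfff) bs (substW img [46,38,46,38,39]) [] = true := by decide +kernel
theorem Oc206 : eqW (appT tabs t67 0xfff) bs (substW img [46,41,46,39,40,41]) [] = true := by decide +kernel
theorem Oc207 : eqW (appT tabs t67 0xfff) bs (substW img [46,42,46,42,46,42]) [] = true := by decide +kernel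
theorem Oc208 : eqW (appT tabs t67 0xfff) bs (substW img [46,45,46,45,46,45]) [] = true := by decide +kernel
theorem Oc209 : eqW (appT tabs t67 0xfff) bs (substW img [46,42,44,46,38,41,42,44]) [] = true := by decide +kernel
theorem Oc210 : eqW (appT tabs t67 0xfff) bs (substW img [47,47]) [] = true := by decide +kernel
theorem Oc211 : eqW (appT tabs t67 0xfff) bs (substW img [47,39,47,39]) [] = true := by decide +kernel
theorem Oc212 : eqW (appT tabs t67 0xfff) bs (substW img [47,46,47,46]) [] = true := by decide +kernel
theorem Oc213 : eqW (appT tabs t67 0xfff) bs (substW img [47,40,47,40,46]) [] = true := by decide +kernel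
theorem Oc214 : eqW (appT tabs t67 0xfff) bs (substW img [47,41,47,41,47,41]) [] = true := by decide +kernel
theorem Oc215 : eqW (appT tabs t67 0xfff) bs (substW img [47,45,47,39,45,46,45,39]) [] = true := by decide +kernel
theorem Oc216 : eqW (appT tabs t67 0xfff) bs (substW img [48,48]) [] = true := by decide +kernel
theorem Oc217 : eqW (appT tabs t67 0xfff) bs (substW img [48,39,48,39,48,39]) [] = true := by decide +kernel
theorem Oc218 : eqW (appT tabs t67 0xfff) bs (substW img [48,46,48,46,48,46]) [] = true := by decide +kernel
theorem Oc219 : eqW (appT tabs t67 0xfff) bs (substW img [48,47,48,47,48,47]) [] = true := by decide +kernel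
theorem Oc220 : eqW (appT tabs t67 0xfff) bs (substW img [48,42,47,43,48,42,46,43]) [] = true := by decide +kernel
theorem Oc221 : eqW (appT tabs t67 0xfff) bs (substW img [48,40,48,42,47,46,43,40]) [] = true := by decide +kernel
theorem Oc222 : eqW (appT tabs t67 0xfff) bs (substW img [48,38,44,47,44,48,44,47,44,38]) [] = true := by decide +kernel
theorem Oc223 : eqW (appT tabs t67 0xfff) bs (substW img [48,38,44,48,40,48,44,38,48,41]) [] = true := by decide +kernel
theorem Oc224 : eqW (appT tabs t67 0xfff) bs (substW img [48,38,48,38,48,38,48,38]) [] = true := by decide +kernel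
theorem Oc225 : eqW (appT tabs t67 0xfff) bs (substW img [40,48,40,45,44,40,48,40,44,45]) [] = true := by decide +kernel
theorem Oc226 : eqW (appT tabs t67 0xfff) bs (substW img [47,48,46,47,48,43,48,40,42]) [] = true := by decide +kernel
theorem Oc227 : trChk (appT tabs t67 0xfff) mc0 [mc1, mc2, mc3, mc4, mc5, mc6, mc7, mc8] bs (pairQ 6 8 64 66 nQ) (pairQ 6 8 64 66 [[0], [1]]) [] 0 100 = true := by decide +kernel

end Cfsg.Agent.CG.HS
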