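import Cfsg.Agent.Lib.Grp.HS.OD1
import Cfsg.Agent.Lib.Grp.HS.Defs

set_option autoImplicit false
set_option maxRecDepth 100000
set_option Elab.async false

namespace Cfsg.Agent.CG.HS

noncomputable def cc0 : Lvl := ⟨0, [54,55,56], 80,
  fun i => look 0xfff cc0c (Nat.mul 12 i), fun i => look 0xff cc0p (Nat.mul 8 i),
  fun i => look 255 cc0l (Nat.mul 8 i), fun i => look 255 cc0i (Nat.mul 8 i), fun x => look 0xfff cc0q x, 7⟩
noncomputable def cc1 : Lvl := ⟨948, [57,58,59,60], 16,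
  fun i => look 0xfff cc1c (Nat.mul 12 i), fun i => look 0xff cc1p (Nat.mul 8 i),
  fun i => look 255 cc1l (Nat.mul 8 i), fun i => look 255 cc1i (Nat.mul 8 i), fun x => look 0xfff cc1q x, 4⟩
noncomputable def cc2 : Lvl := ⟨204, [61,62,63], 6,
  fun i => look 0xfff cc2c (Nat.mul 12 i), fun i => look 0xf cc2p (Nat.mul 4 i),
  fun i => look 255 cc2l (Nat.mul 8 i), fun i => look 255 cc2i (Nat.mul 8 i), fun x => look 0xfff cc2q x, 2⟩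
noncomputable def cc : List Lvl := [cc0, cc1, cc2]
noncomputable def pc0 : Lvl := ⟨0, [49,50,51,52], 64,
  fun i => look 0xfff pc0c (Nat.mul 12 i), fun i => look 0xff pc0p (Nat.mul 8 i),
  fun i => look 255 pc0l (Nat.mul 8 i), fun i => look 255 pc0i (Nat.mul 8 i), fun x => look 0xfff pc0q x, 8⟩
noncomputable def pc1 : Lvl := ⟨948, [49,50,51], 8,
  fun i => look 0xfff pc1c (Nat.mul 12 i), fun i => look 0xf pc1p (Nat.mul 4 i),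
  fun i => look 255 pc1l (Nat.mul 8 i), fun i => look 255 pc1i (Nat.mul 8 i), fun x => look 0xfff pc1q x, 3⟩
noncomputable def pc : List Lvl := [pc0, pc1]
noncomputable def tpR : List (List ℕ) := [[49,50],
  [50,49],
  [51,51],
  [49,51,49,51],
  [49,49,49,49],
  [52,52],
  [52,50,52,49,52,50,52,49],
  [52,51,52,51,52,51,52,51],
  [52,50,52,50,51,52,49,52,49,51]]
noncomputable def tp0T : List ℕ := [0,0,0,0,0,0,0,0,0,0,0,0,0,0,0,0,0,0,0,0,0,0,0,0,0,0,0,0,0,0,0,0,0,0,0,0,0,0,0,0,0,0,0,0,0,0,0,0,0,tp0t49,tp0t50,tp0t51,tp0t52]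
noncomputable def tp0r : Tr Rule := (.node (.node (.node (.node (.node (.leaf ⟨52,[52],5,1⟩) (.leaf ⟨50,[52,50,51,52,49,52,49,51,52],8,1⟩)) (.leaf ⟨49,[52,50,52,49,52,50,52],6,3⟩)) (.node (.node (.leaf ⟨49,[51,49,51],3,2⟩) (.leaf ⟨51,[49,51,49],3,1⟩)) (.leaf ⟨49,[52,49,51,52,50,52,50,51,52],8,6⟩))) (.node (.node (.node (.leaf ⟨49,[50],0,0⟩) (.leaf ⟨49,[49,49,49],4,3⟩)) (.leaf ⟨51,[52,51,52,51,52,51,52],7,5⟩)) (.node (.leaf ⟨49,[51,49,51],3,0⟩) (.leaf ⟨51,[52,50,52,50,51,52,49,52,49],8,9⟩)))) (.node (.node (.node (.node (.leaf ⟨50,[49],0,1⟩) (.leaf ⟨49,[51,52,50,52,50,51,52,49,52],8,8⟩)) (.leaf ⟨49,[52,50,52,49,52,50,52],6,7⟩)) (.node (.node (.leaf ⟨49,[49,49,49],4,2⟩) (.leaf ⟨51,[52,51,52,51,52,51,52],7,3⟩)) (.leaf ⟨51,[52,49,52,49,51,52,50,52,50],8,4⟩))) (.node (.node (.node (.leaf ⟨51,[51],2,1⟩) (.leaf ⟨51,[52,51,52,51,52,51,52],7,7⟩)) (.leaf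 ⟨51,[49,51,49],3,3⟩)) (.node (.leaf ⟨50,[52,49,52,50,52,49,52],6,5⟩) (.leaf ⟨50,[51,52,49,52,49,51,52,50,52],8,3⟩)))))
noncomputable def tp0 : TCL := ⟨[49,50,51,52], [49,50,51], 64, 24, 0x7ff, 11, 0x1f,
  fun a x => look 0xffffff (nth tp0T 0 a) x, fun x => look 0xffffff tp0d x, tp0r⟩
noncomputable def tp1T : List ℕ := [0,0,0,0,0,0,0,0,0,0,0,0,0,0,0,0,0,0,0,0,0,0,0,0,0,0,0,0,0,0,0,0,0,0,0,0,0,0,0,0,0,0,0,0,0,0,0,0,0,tp1t49,tp1t50,tp1t51]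
noncomputable def tp1r : Tr Rule := (.node (.node (.node (.leaf ⟨50,[49],0,1⟩) (.leaf ⟨49,[49,49,49],4,2⟩)) (.leaf ⟨51,[51],2,1⟩)) (.node (.node (.leaf ⟨49,[50],0,0⟩) (.leaf ⟨49,[49,49,49],4,3⟩)) (.leaf ⟨49,[51,49,51],3,2⟩)))
noncomputable def tp1 : TCL := ⟨[49,50,51], [], 8, 16, 0xff, 8, 0xf,
  fun a x => look 0xffff (nth tp1T 0 a) x, fun x => look 0xffff tp1d x, tp1r⟩
noncomputable def tp : List TCL := [tp0, tp1]
noncomputable def pS : List ℕ := [49,50,51,52]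
noncomputable def pQ : List (List ℕ) := [[],
  [52],
  [52,49,49,52],
  [51,49,49,52],
  [52,50,52],
  [52,49,52],
  [52,49,52,49,52],
  [52,50,52,49,49,52],
  [51,50,52,51,50,52]]
noncomputable def pR : List (List ℕ) := [[49],
  [50],
  [51],
  [52]]
noncomputable def pF : List (List ℕ) := [[],
  [6,9,9,16,20,23,25,26,26,29,36]]
noncomputable def pU : List (List ℕ) := [[6,11,6,15,20,22,22,24,28,33,36,37]]
noncomputable def aK : List ℕ := [6,64]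
noncomputable def nK : List (List ℕ × ℕ) := [([],0),
  ([],6),
  ([],64),
  ([9,11,19,16,20,22,26,26,33,37],6),
  ([6,8,7,16,18,24,22,24,27,27,29,32,35,34,37],6),
  ([6,8,15,18,15,22,23,26,30,32,34,36,37],6),
  ([9,11,19,16,20,22,26,26,33,37],64),
  ([9,7,16,20,22,24,28,32,35,36],64),
  ([6,8,7,16,18,24,22,24,27,27,29,32,35,34,37],64),
  ([9,7,16,20,22,24,28,32,35,36],6),
  ([6,8,15,18,15,22,23,26,30,32,34,36,37],64)]
noncomputable def rT : List (List ℕ × ℕ) := [([0,1,0,1,0,1,0,1,0,1],156),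
  ([0,1,0,1,0,1,0,1,0,1],624),
  ([0,1,0,1,0,1,0,1,0,1],468),
  ([0,1,0,1,0,1,0,1,0,1],780),
  ([0,0,1,0,0,1,0,0,1,0,0,1,0,0,1,0,0,1,0,0,1,0,0,1,0,0,1,0,0,1,0,0,1,0,0,1],1188),
  ([0,0,0,1,0,1,0,1,0,0,0,1,0,1,0,1,0,0,0,1,0,1,0,1,0,0,0,1,0,1,0,1,0,0,0,1,0,1,0,1],708),
  ([0,0,1,0,0,1,0,0,1,0,0,1,0,0,1,0,0,1,0,0,1,0,0,1,0,0,1,0,0,1,0,0,1,0,0,1],768),
  ([0,0,0,1,0,1,0,1,0,0,0,1,0,1,0,1,0,0,0,1,0,1,0,1,0,0,0,1,0,1,0,1,0,0,0,1,0,1,0,1],852),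
  ([0,0,0,0,0,1,0,0,1,0,0,0,0,0,1,0,0,1,0,0,0,0,0,1,0,0,1,0,0,0,0,0,1,0,0,1,0,0,0,0,0,1,0,0,1,0,0,0,0,0,1,0,0,1],768)]
noncomputable def uu : List (List ℕ) := [[],
  [6],
  [6,6],
  [7],
  [7,7],
  [8,12,6,15,24,26,26,28,33,35],
  [8,12,15,17,24,22,24,27,29,36],
  [9,6,19,15,22,23,27,27,29,35,34,36,37],
  [9,8,15,17,24,22,24,27,29,36],
  [13,9,16,20,23,22,23,29,33,35,34],
  [14,9,15,17,25,27,27,29,34]]
noncomputable def wT : Tr ℕ := (.node (.node (.node (.leaf w0) (.leaf w4)) (.leaf w2)) (.node (.node (.leaf w1) (.leaf w5)) (.leaf w3)))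
noncomputable def en : Enum := ⟨inv, 8, 255, 3, fun i => force (Nat.shiftRight i 10) fun c => look 0xffffff (wT.get c) (Nat.mul 24 (Nat.land i 1023)), 8, [756,228,108,1092,432], 4096⟩
noncomputable def tst : (ℕ → ℕ) → Bool := outTest (appT tabs t67 0xfff) bs aK rT [(6, 8), (64, 66)] uu
noncomputable def imgL : List (List ℕ) := [[],
  [],
  [],
  [],
  [],
  [],
  [],
  [],
  [],
  [],
  [],
  [],
  [],
  [],
  [],
  [],
  [],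
  [],
  [],
  [],
  [],
  [],
  [],
  [],
  [],
  [],
  [],
  [],
  [],
  [],
  [],
  [],
  [],
  [],
  [],
  [],
  [],
  [],
  [10,13,19,15,21,21,23,27,28,36,37],
  [10,8,11,16,18,24,27,27,30,33,35,36],
  [10,8,11,17,24,26,32,35,34,37],
  [10,13,19,15,23,21,29,33],
  [14,10,18,18,15,21,21,26,26,28,35,36],
  [13,12,6,19,16,20,23,22,23,26,26,33,35,36],
  [11,7,9,21,21,23,26,28,33,35],
  [19,16,20,22,23,21,27,27,28,34,37],
  [14,9,6,15,18,15,24,22,24,27,27,28,32,35,34],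
  [11,7,16,17,23,22,26,26,29,32,34,37],
  [11,7,19,17,22,24,33,35,34,37]]
noncomputable def img (a : ℕ) : List ℕ := nth imgL [] a
noncomputable def nQ : List (List ℕ) := [[],
  [1,0,0,1,0,0,1,0,1],
  [1,0,1,0,0,0,1],
  [1,0,0,0,0,0,0,0,0,1,0,1],
  [0,0,1,0,0,0,0,0,0,1],
  [1,0,1,0,0,0,0,0],
  [0,0,1,0,1,0,0,0,1],
  [0,1,0,0,0,1],
  [0,0,1,0,1]]

end Cfsg.Agent.CG.HS
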