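import Cfsg.Agent.Lib.Grp.HS.OC0
import Cfsg.Agent.Lib.Grp.HS.Main

set_option autoImplicit false
set_option maxRecDepth 100000
set_option Elab.async false

namespace Cfsg.Agent.CG.HS

theorem chainC : ChainOK act cc [] :=
  chainOK_of_chk act cc [] (by simp) (okc_of_okcb Oc156) Oc157
  (allL_cons Oc153 (allL_cons Oc154 (allL_cons Oc155 (allL_nil _))))

theorem chainP : ChainOK act pc [] :=
  chainOK_of_chk act pc [] (by simp) (okc_of_okcb Oc165) Oc166
  (allL_cons Oc163 (allL_cons Oc164 (allL_nil _)))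

theorem boundsP : Bounds tpR pS (2 ^ 9) :=
  (show prodTC tp = 2 ^ 9 by decide +kernel) ▸ bounds_of_chain Oc162
  (allL_cons Oc158 (allL_cons Oc160 (allL_nil _)))
  (allL_cons Oc159 (allL_cons Oc161 (allL_nil _)))

theorem cardP : Nat.card (cl act.gen pS) = 2 ^ 9 :=
  card_cl_eq chainP (by decide +kernel) boundsP (base.rels Oc167) (by decide +kernel)

theorem centP : ∀ g ∈ Subgroup.centralizer (cl act.gen pS : Set PG), ∃ φ ∈ pF, g = ev act.gen φ :=
  centralizer_subset (l := mc0) (L := [mc1, mc2, mc3, mc4, mc5, mc6, mc7, mc8]) chain card_le base (Q := pQ) (Rf := pR) (by decide +kernel) (by decide +kernel) (by decide +kernel)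
    Oc168

theorem autT (φ : MulAut PG) : ∃ g : PG, φ (act.gen 8) = g * act.gen 8 * g⁻¹ :=
  aut_class base (r := 2) (by norm_num) cardP (not_dvd_of_eq card (by decide +kernel)) centP
    Oc169 φ

theorem autA (φ : MulAut PG) : ∃ g : PG, ∃ a' ∈ aK, g * φ (act.gen 6) * g⁻¹ = act.gen a' :=
  aut_pow base (p := 11) (by norm_num) (not_dvd_of_eq card (by decide +kernel))
    Oc170 φ

theorem enumOK : en.OK app tst 0 5775 0 334472264219935669 :=
  (Enum.OK.append (Enum.ok_of_chk Oc171)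
  (Enum.ok_of_chk Oc172))

theorem cent_le : prodN cc ≤ Nat.card (Subgroup.centralizer {act.gen 8}) :=
  le_card_centralizer base chainC Oc173

theorem classAll (g : PG) : ∃ f, act.Rep (g * act.gen 8 * g⁻¹) f ∧ tst f = true :=
  Enum.OK.all (A := act) (E := en) enumOK hinv (okc_of_okcb (n := 100) (w := 12) (by decide +kernel)) cent_le
    (card ▸ (ble_iff _ _).1 (by decide +kernel)) g

theorem autPair (φ : MulAut PG) : ∃ s ∈ [(6, 8), (64, 66)], ∃ g : PG, φ (act.gen 6) = g * act.gen s.1 * g⁻¹ ∧ φ (act.gen 8) = g * act.gen s.2 * g⁻¹ :=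
  aut_pair base Oc174 (okc_of_okcb (n := 100) (w := 12) (by decide +kernel)) autA autT classAll φ

theorem sigma : ∃ σ : MulAut PG, σ (act.gen 6) = act.gen 64 ∧ σ (act.gen 8) = act.gen 66 :=
  exists_aut' base bounds rels clS card.ge (img := img)
    (allL_cons Oc175 (allL_cons Oc176 (allL_cons Oc177 (allL_cons Oc178 (allL_cons Oc179 (allL_cons Oc180 (allL_cons Oc181 (allL_cons Oc182 (allL_cons Oc183 (allL_cons Oc184 (allL_cons Oc185 (allL_cons Oc186 (allL_cons Oc187 (allL_cons Oc188 (allL_cons Oc189 (allL_cons Oc190 (allL_cons Oc191 (allL_cons Oc192 (allL_cons Oc193 (allL_cons Oc194 (allL_cons Oc195 (allL_cons Oc196 (allL_cons Oc197 (allL_cons Oc198 (allL_cons Oc199 (allL_cons Oc200 (allL_cons Oc201 (allL_cons Oc202 (allL_cons Oc203 (allL_cons Oc204 (allL_cons Oc205 (allL_cons Oc206 (allL_cons Oc207 (allL_cons Oc208 (allL_cons Oc209 (allL_cons Oc210 (allL_cons Oc211 (allL_cons Oc212 (allL_cons Oc213 (allL_cons Oc214 (allL_cons Oc215 (allL_cons Oc216 (allL_cons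 Oc217 (allL_cons Oc218 (allL_cons Oc219 (allL_cons Oc220 (allL_cons Oc221 (allL_cons Oc222 (allL_cons Oc223 (allL_cons Oc224 (allL_cons Oc225 (allL_cons Oc226 (allL_nil _)))))))))))))))))))))))))))))))))))))))))))))))))))))
    clAT (va := [48,47,38,48,42,44,47,41,45,43,46,42,44,43]) (vt := [48,46,39,48,47,41,45,42,46,39,45]) (wa := [42,48,41,38,47,43,38,45,46,45,43,44,43,40,38]) (wt := [45,48,38,48,44,47,46,39,45,42,44,42,41,40,39]) (by decide +kernel) (by decide +kernel)

theorem card_out : Nat.card (Out PG) = 2 := by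
  obtain ⟨σ, h1, h2⟩ := sigma
  exact card_out_eq_two clAT σ h1 h2 (not_conj_pair (l := mc0) (L := [mc1, mc2, mc3, mc4, mc5, mc6, mc7, mc8]) chain card_le base (Q := nQ) (Rf := [[0], [1]]) (by decide +kernel)
    Oc227) autPair

end Cfsg.Agent.CG.HS
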